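import Groth.Agent.Sga4h.H919.ConcH
import Groth.Agent.Sga4h.H919.P1Geo
import Groth.Agent.Sga4B.G0Van193
import Groth.Agent.S0642
import Groth.Agent.Etcore.SepClosedRed
import Groth.Agent.Etcore.ShriekBaseChange
import Groth.Agent.Etrest.ModAb

/-!
# Cohomology with compact support of the affine line with finite constant coefficients

`Ω` separably closed, `M` a finite abelian group killed by an integer invertible in `Ω`:
`H^q(P^1_Ω, j_! M)` vanishes for `q ≠ 2` and has `|M|` elements for `q = 2` (`j` a standard chart).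
-/

set_option autoImplicit false
universe u
open CategoryTheory CategoryTheory.Limits AlgebraicGeometry Opposite Abelian
open scoped Groth.Agent.Etcore.EtInst
open Groth.Agent.Etcore.EtInst

namespace Groth.Agent.Sga4h.H26.HCA

open Groth.Agent.Sga4B Groth.Agent.Sga4B.ConstLC Groth.Agent.EtpbcA.P1Charts
  Groth.Agent.Sga4B.DiagGeom Groth.Agent.Sga4h.H919.ConcH Groth.Agent.Sga4h.H919.P1Geo
open Groth.Agent.Dix.ProjProper (mapBase mapBase_toZ mapBase_toBase isPullback_mapBase)

section algClosed

variable (k : Type u) [Field k] [IsAlgClosed k] (n : ℕ) (hn : (n : k) ≠ 0)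
  (M : Type) [AddCommGroup M] [Finite M] (hM : ∀ m : M, n • m = 0) (i : Fin (1 + 1))

/-- `H^q(ℙ¹, M)` for the two models of the projective line. -/
noncomputable def HP (q : ℕ) : EtCoh.H (CohB1.ProjSpace 1 k) (EtCoh.const _ M) q ≃+
    EtCoh.H (PP (CommRingCat.of k)) (EtCoh.const _ M) q :=
  CurveOpenCard.HConstIso (CohqB.ProjBC.projSpaceOverIso 1 k).inv M q

omit [IsAlgClosed k] in
theorem isCompl : IsCompl (Set.range (P1.sect (Spec (CommRingCat.of k)) (i + 1)))
    (Set.range (chart i (CommRingCat.of k))) := by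
  have h := G0Van193.isCompl k i
  rwa [Scheme.Opens.range_ι, Op, Scheme.Hom.coe_opensRange] at h

include hn hM in
theorem concAt_algClosed : ConcAt (PP (CommRingCat.of k))
    ((EtShriek.extZero (chart i (CommRingCat.of k))).obj
      ((EtShriek.restrAlong (chart i (CommRingCat.of k))).obj (EtCoh.const _ M))) 2 (Nat.card M) := by
  have hn0 : n ≠ 0 := P1Coh.ne_zero k n hn
  let c : PP (CommRingCat.of k) ⟶ Spec (CommRingCat.of k) :=
    CohB1.ProjSpaceOver.toBase 1 (Spec (CommRingCat.of k))
  let s := P1.sect (Spec (CommRingCat.of k)) (i + 1)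
  have hs : IsClosedImmersion s := by
    have h1 : IsClosedImmersion (s ≫ c) := by
      rw [P1Geom.sect_toBase]
      infer_instance
    exact IsClosedImmersion.of_comp s c
  have hint : IsIntegral (PP (CommRingCat.of k)) := P1Curve.isIntegral_projLine k
  have hconn : ConnectedSpace (PP (CommRingCat.of k)) := inferInstance
  have hc := isCompl k i
  have h0 := CurveOpen.subsingleton_H0 c s (chart i (CommRingCat.of k)) hc M
  have h1 := CurveOpen.card_H1 c s (chart i (CommRingCat.of k)) hc M
  have h2 := CurveOpen.bijective_H2 c s (chart i (CommRingCat.of k)) hc M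
  obtain ⟨e2⟩ := P1Coh.nonempty_H2 k n hn M hM
  have e : EtCoh.H (PP (CommRingCat.of k)) ((EtShriek.extZero (chart i (CommRingCat.of k))).obj
      ((EtShriek.restrAlong (chart i (CommRingCat.of k))).obj (EtCoh.const _ M))) 2 ≃+ M :=
    ((AddEquiv.ofBijective _ (h2 2 le_rfl)).trans (HP k M 2).symm).trans e2
  refine ⟨fun q hq => ?_, Finite.of_equiv _ e.symm.toEquiv, Nat.card_congr e.toEquiv⟩
  rcases lt_or_gt_of_ne hq with hq | hq
  · interval_cases q
    · exact h0
    · have h3 : Subsingleton (HH (PP (CommRingCat.of k)) (EtCoh.const _ M) 1) := by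
        have := P1Coh.subsingleton_H1 k n hn M hM
        exact (HP k M 1).symm.toEquiv.subsingleton
      have h4 : Nat.card (HH (PP (CommRingCat.of k)) (EtCoh.const _ M) 1) = 1 :=
        Nat.card_unique
      have h5 : Nat.card (Spec (CommRingCat.of k)) = 1 := Nat.card_unique
      rw [h4, h5, pow_one, mul_one] at h1
      have h6 := Nat.eq_of_mul_eq_mul_left (Nat.card_pos (α := M)) ((mul_one _).trans h1)
      exact (Nat.card_eq_one_iff_unique.1 h6.symm).1
  · have h3 : Subsingleton (HH (PP (CommRingCat.of k)) (EtCoh.const _ M) q) := by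
      have := P1Coh.subsingleton_H k n hn M hM q hq
      exact (HP k M q).symm.toEquiv.subsingleton
    exact ⟨fun a b => (h2 q hq.le).1 (@Subsingleton.elim _ h3 _ _)⟩

end algClosed

theorem ConcAt.of_pull {X Y : Scheme.{u}} (a : Y ⟶ X) [IsIntegralHom a] [UniversallyInjective a]
    [Surjective a] (F : EtCoh.Ab X) {q₀ c : ℕ} (h : ConcAt Y ((EtCoh.pull a).obj F) q₀ c) :
    ConcAt X F q₀ c := by
  have h1 : PreservesFiniteLimits (EtCoh.pull a) := Groth.Agent.S0101.result a
  have key : ∀ q, EtCoh.H X F q ≃ EtCoh.H Y ((EtCoh.pull a).obj F) q := fun q =>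
    Equiv.ofBijective _ (Groth.Agent.S0642.result a F q)
  refine ⟨fun q hq => ?_, ?_, ?_⟩
  · have := h.zero q hq
    exact (key q).subsingleton
  · have := h.fin
    exact Finite.of_equiv _ (key q₀).symm
  · rw [← h.card]
    exact Nat.card_congr (key q₀)

section sepClosed

variable (Ω : Type u) [Field Ω] [IsSepClosed Ω] (n : ℕ) (hn : (n : Ω) ≠ 0) (i : Fin (1 + 1))

include hn in
/-- Compactly supported cohomology of the affine line with finite constant coefficients. -/
theorem concAt_const (M : Type) [AddCommGroup M] [Finite M] (hM : ∀ m : M, n • m = 0) :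
    ConcAt (PP (CommRingCat.of Ω)) ((EtShriek.extZero (chart i (CommRingCat.of Ω))).obj
      (EtCoh.const _ M)) 2 (Nat.card M) := by
  let k := AlgebraicClosure Ω
  let φ : CommRingCat.of Ω ⟶ CommRingCat.of k := CommRingCat.ofHom (algebraMap Ω k)
  have hk : (n : k) ≠ 0 := by
    intro h
    apply hn
    apply (algebraMap Ω k).injective
    rw [map_natCast, h, map_zero]
  obtain ⟨a1, a2, a3⟩ := Groth.Agent.Etcore.SepClosedRed.bc_spec Ω k (isPullback_mapBase 1 (Spec.map φ))
  refine ConcAt.of_pull (mapBase 1 (Spec.map φ)) _ ?_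
  have h1 := concAt_algClosed k n hk M hM i
  refine h1.of_iso ?_
  refine (EtShriek.extZero (chart i (CommRingCat.of k))).mapIso
    (CurveOpenCard.restrConstIso (chart i (CommRingCat.of k)) M ≪≫ (pullConstIso (amap φ) M).symm) ≪≫
    (Groth.Agent.Etcore.ShriekBaseChange.extZeroBaseChange (chart i (CommRingCat.of Ω))
      (mapBase 1 (Spec.map φ)) (chart i (CommRingCat.of k)) (amap φ)
      (isPullback_chart_mapBase φ i).flip).app _

variable {l : ℕ} [Fact l.Prime] (hl : (l : Ω) ≠ 0) (Λ : Type (u + 1)) [Field Λ] [Finite Λ] [CharP Λ l]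

include hl in
theorem concAt : ConcAt (PP (CommRingCat.of Ω)) ((EtShriek.extZero (chart i (CommRingCat.of Ω))).obj
    ((Groth.Agent.Etrest.ModAb.ab Λ _).obj (EtModW.constMod Λ _ Λ))) 2 (Nat.card Λ) := by
  let _ : Algebra (ZMod l) Λ := ZMod.algebra Λ l
  have hfin : Module.Finite (ZMod l) Λ := Module.Finite.of_finite
  let r := Module.finrank (ZMod l) Λ
  let M : Type := Fin r → ZMod l
  let e : Λ ≃+ ULift.{u + 1} M :=
    (Module.finBasis (ZMod l) Λ).equivFun.toAddEquiv.trans AddEquiv.ulift.symm
  have hM : ∀ m : M, l • m = 0 := fun m => by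
    funext j
    rw [Pi.smul_apply, nsmul_eq_mul, CharP.cast_eq_zero, zero_mul, Pi.zero_apply]
  have h1 := concAt_const Ω l hl i M hM
  have h2 : Nat.card Λ = Nat.card M :=
    (Nat.card_congr e.toEquiv).trans (Nat.card_congr Equiv.ulift)
  rw [h2]
  refine h1.of_iso ((EtShriek.extZero (chart i (CommRingCat.of Ω))).mapIso ?_)
  exact ((constantSheaf _ AddCommGrpCat.{u + 1}).mapIso e.symm.toAddCommGrpIso) ≪≫
    ((Groth.Agent.Etrest.ModAb.constIso Λ _).app (ModuleCat.of Λ Λ)).symm

end sepClosed

end Groth.Agent.Sga4h.H26.HCA
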